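import Cfsg.Agent.Lib.HallNumber.EightSeven.Count
import Cfsg.Agent.Lib.ClassicalLinear.Card
import Cfsg.Agent.S2202

/-!
A group in the configuration has order divisible by nine: the involution centralisers are abelian.
-/

set_option autoImplicit false
open Cfsg
open scoped Pointwise

namespace CfsgLib.HallNumber.EightSeven

variable {G : Type*} [Group G] [Finite G]

namespace Hyp

variable {E : Subgroup G} (h : Hyp E)

include h

theorem centralizer_le_E {a : G} (ha : a ∈ E) (ha1 : a ≠ 1) :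
    Subgroup.centralizer ({a} : Set G) ≤ E := by
  have h1 : theta a = ⊥ := le_bot_iff.1 (h.core_eq_bot ▸ theta_le_core ha ha1)
  have := (h.theta_odd_and_le ha ha1).2
  rwa [h1, bot_sup_eq] at this

theorem isMulCommutative_centralizer {t : G} (ht : orderOf t = 2) :
    IsMulCommutative ↥(Subgroup.centralizer ({t} : Set G)) := by
  obtain ⟨g, hg⟩ := h.exists_conj_mem
    (IsPGroup.of_card (p := 2) (n := 1) (by rw [Nat.card_zpowers, ht, pow_one]))
  have hgt := hg t (Subgroup.mem_zpowers t)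
  have hne : g * t * g⁻¹ ≠ 1 := fun he => CfsgLib.Involutions.ne_one ht (conj_eq_one_iff.1 he)
  have hmem : ∀ x ∈ Subgroup.centralizer ({t} : Set G), g * x * g⁻¹ ∈ E := fun x hx =>
    h.centralizer_le_E hgt hne (mem_cent.2 (by
      have := mem_cent.1 hx
      calc g * t * g⁻¹ * (g * x * g⁻¹) = g * (t * x) * g⁻¹ := by group
        _ = _ := by rw [this]; group))
  refine ⟨⟨fun x y => Subtype.ext ?_⟩⟩
  show (x : G) * y = y * x
  have := h.commE (hmem _ x.2) (hmem _ y.2)
  refine mul_left_cancel (a := g) (mul_right_cancel (b := g⁻¹) ?_)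
  calc g * ((x : G) * y) * g⁻¹ = g * x * g⁻¹ * (g * y * g⁻¹) := by group
    _ = _ := by rw [this]; group

theorem nine_dvd : 9 ∣ Nat.card G := by
  haveI : Fact (Nat.Prime 2) := ⟨Nat.prime_two⟩
  have h8 : 8 * E.index = Nat.card G := by rw [← h.card_E, Subgroup.card_mul_index]
  rcases Cfsg.Agent.S2202.result (by rw [← h8]; exact Even.mul_right ⟨4, rfl⟩ _)
    (fun t ht => h.isMulCommutative_centralizer ht) with hc | hn | ⟨F, iF, iF', A, iA, iA', hchar, hA, ⟨φ⟩⟩
  · exact absurd (hc h.sylow) (by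
      show ¬ IsCyclic ↥((h.sylow : Sylow 2 G) : Subgroup G)
      exact h.not_isCyclic)
  · haveI := h.simple
    have hE : E.Normal := hn h.sylow
    rcases hE.eq_bot_or_eq_top with h0 | h0
    · have := h.card_E
      rw [h0, Subgroup.card_bot] at this
      omega
    · exact absurd (Group.isSolvable_of_comm fun x y => h.commE (h0.symm ▸ Subgroup.mem_top x)
        (h0.symm ▸ Subgroup.mem_top y)) h.not_solv
  · letI := iF
    letI := iF'
    letI := iA
    haveI := iA'
    haveI := hchar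
    obtain ⟨n, -, hn⟩ := FiniteField.card F 2
    have hq := CfsgLib.ClassicalLinear.card_SL_two (F := F) hn
    have hcard : Nat.card G = 2 ^ (n : ℕ) * ((2 ^ (n : ℕ)) ^ 2 - 1) * Nat.card A := by
      rw [Nat.card_congr φ.toEquiv, Nat.card_prod, hq]
    have hpos : 1 ≤ (2 ^ (n : ℕ)) ^ 2 := Nat.one_le_pow _ _ (by positivity)
    have hev : Even ((2 ^ (n : ℕ)) ^ 2) := (Nat.even_pow.2 ⟨even_two, n.pos.ne'⟩).pow_of_ne_zero two_ne_zero
    have hodd : Odd (((2 ^ (n : ℕ)) ^ 2 - 1) * Nat.card A) :=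
      Nat.odd_mul.2 ⟨Nat.Even.sub_odd hpos hev odd_one, hA⟩
    have hidx : Odd E.index := Nat.not_even_iff_odd.1 fun he => h.index_odd (even_iff_two_dvd.1 he)
    have e : 2 ^ 3 * E.index = 2 ^ (n : ℕ) * (((2 ^ (n : ℕ)) ^ 2 - 1) * Nat.card A) := by
      rw [← mul_assoc, ← hcard, ← h8]; norm_num
    have h3 : (n : ℕ) = 3 := by
      refine le_antisymm ((Nat.pow_dvd_pow_iff_le_right (by norm_num : 1 < 2)).1 ?_)
        ((Nat.pow_dvd_pow_iff_le_right (by norm_num : 1 < 2)).1 ?_)
      · exact ((Nat.coprime_two_left.2 hidx).pow_left _).dvd_of_dvd_mul_right ⟨_, e⟩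
      · exact ((Nat.coprime_two_left.2 hodd).pow_left _).dvd_of_dvd_mul_right ⟨_, e.symm⟩
    rw [hcard, h3]
    exact ⟨8 * 7 * Nat.card A, by ring⟩

end Hyp

end CfsgLib.HallNumber.EightSeven
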